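import Mathlib

/-! Finite enumerations for the numerical constraints. -/

set_option autoImplicit false
set_option synthInstance.maxSize 200000
set_option synthInstance.maxHeartbeats 400000
set_option maxRecDepth 100000

namespace Cfsg.Agent.T3

/-- an involution class with multiplicity `m`, centralizer order `c` and character value `d - e` -/
def Iv (k d g m c e : ℕ) : Prop :=
  2 * d + 4 ≤ 3 * e ∧ 3 * e ≤ 4 * d + 2 ∧ e % 2 = 0 ∧ m * c = 2 * k * e ∧ g % c = 0 ∧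
    2 * d ^ 2 + 2 * e ^ 2 + 2 * d + 2 ≤ c + 4 * d * e + 2 * e

instance (k d g m c e : ℕ) : Decidable (Iv k d g m c e) := inferInstanceAs (Decidable (_ ∧ _))

theorem Iv.ratio {k d g m c e m' c' e' : ℕ} (hk : 0 < k) (h : Iv k d g m c e)
    (h' : Iv k d g m' c' e') : m * c < 2 * (m' * c') := by
  rw [h.2.2.2.1, h'.2.2.2.1]
  have : e < 2 * e' := by have := h.2.1; have := h'.1; omega
  nlinarith

def C2 (k d g H e1 e2 : ℕ) : Prop :=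
  Iv k d g 1 (2 * k * e2) e2 ∧ 2 * k * e2 % 3 ≠ 0 ∧ (g % (2 * H) ≠ 0 ∨ g % (2 * (2 * k * e2)) ≠ 0) ∧
    4 * e1 + 3 * e2 ≤ 8 * d + 4 ∧ (4 * e1 + 3 * e2) % 12 = (8 * d + 4) % 12 ∧
    4 * d ≤ 4 + 2 * e1 + 3 * e2 ∧ (4 * d) % 12 = (4 + 2 * e1 + 3 * e2) % 12

instance (k d g H e1 e2 : ℕ) : Decidable (C2 k d g H e1 e2) := inferInstanceAs (Decidable (_ ∧ _))

theorem dec336 : ∀ k < 169, 336 = 2 * k * (168 / k) → ∀ d < 253,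
    Iv k d (6 * k ^ 2 * (d * (d + 1))) 1 336 (168 / k) → 6 * k ^ 2 * (d * (d + 1)) % 9 ≠ 0 →
    6 * k ^ 2 * (d * (d + 1)) % 5 ≠ 0 → ∀ e < 2 * d + 1,
    C2 k d (6 * k ^ 2 * (d * (d + 1))) 336 (168 / k) e →
    (6 * k ^ 2 * (d * (d + 1)) = 140448 ∧ 2 * k * e = 352) ∨
    (6 * k ^ 2 * (d * (d + 1)) = 200928 ∧ 2 * k * e = 416) ∨
    (6 * k ^ 2 * (d * (d + 1)) = 291648 ∧ 2 * k * e = 448) := by
  decide +kernel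

theorem dec192 : ∀ k < 97, 192 = 2 * k * (96 / k) → ∀ d < 144,
    Iv k d (6 * k ^ 2 * (d * (d + 1))) 1 192 (96 / k) → 6 * k ^ 2 * (d * (d + 1)) % 9 ≠ 0 →
    6 * k ^ 2 * (d * (d + 1)) % 5 ≠ 0 → 6 * k ^ 2 * (d * (d + 1)) % 7 = 0 →
    6 * k ^ 2 * (d * (d + 1)) % 384 ≠ 0 → ∀ e < 2 * d + 1,
    ¬ C2 k d (6 * k ^ 2 * (d * (d + 1))) 192 (96 / k) e := by
  decide +kernel

def S4 (d E W : ℕ) : Prop :=
  E + 3 * W ≤ 16 * d + 8 ∧ (E + 3 * W) % 24 = (16 * d + 8) % 24 ∧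
    E + 8 * d ≤ 8 + 3 * W ∧ (E + 8 * d) % 24 = (8 + 3 * W) % 24

instance (d E W : ℕ) : Decidable (S4 d E W) := inferInstanceAs (Decidable (_ ∧ _))

def R4 (g c2 c3 c : ℕ) : Prop :=
  c2 = 528 ∨ (g = 401856 ∧ c2 % 23 ≠ 0 ∧ c3 % 23 ≠ 0 ∧ c % 23 ≠ 0) ∨
    (g = 583296 ∧ c2 % 31 ≠ 0 ∧ c3 % 31 ≠ 0 ∧ c % 31 ≠ 0) ∨
    (g = 1909824 ∧ c2 % 29 ≠ 0 ∧ c3 % 29 ≠ 0 ∧ c % 29 ≠ 0)

instance (g c2 c3 c : ℕ) : Decidable (R4 g c2 c3 c) := inferInstanceAs (Decidable (_ ∨ _))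

def C4 (k d g m1 m2 m3 e1 e2 e3 : ℕ) : Prop :=
  (m1 + m2 + m3 = 4 → (g % 1344 ≠ 0 ∨ g % (2 * (2 * k * e2 / m2)) ≠ 0 ∨
      g % (2 * (2 * k * e3 / m3)) ≠ 0) → S4 d (e1 + e2 + e3) (m1 * e1 + m2 * e2 + m3 * e3) →
      R4 g (2 * k * e2 / m2) (2 * k * e3 / m3) 1) ∧
  (m1 + m2 + m3 = 3 → ∀ e < 2 * d + 1, Iv k d g 1 (2 * k * e) e → 2 * k * e % 3 ≠ 0 →
      (g % 1344 ≠ 0 ∨ g % (2 * (2 * k * e2 / m2)) ≠ 0 ∨ g % (2 * (2 * k * e3 / m3)) ≠ 0 ∨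
        g % (2 * (2 * k * e)) ≠ 0) → S4 d (e1 + e2 + e3) (m1 * e1 + m2 * e2 + m3 * e3 + e) →
      R4 g (2 * k * e2 / m2) (2 * k * e3 / m3) (2 * k * e))

instance (k d g m1 m2 m3 e1 e2 e3 : ℕ) : Decidable (C4 k d g m1 m2 m3 e1 e2 e3) :=
  inferInstanceAs (Decidable (_ ∧ _))

def D3 (k d g m1 m2 e1 e2 : ℕ) : Prop :=
  ∀ m3 < 3, 0 < m3 → ∀ e3 < 2 * d + 1, Iv k d g m3 (2 * k * e3 / m3) e3 → 2 * k * e3 / m3 % 3 = 0 →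
    C4 k d g m1 m2 m3 e1 e2 e3

instance (k d g m1 m2 e1 e2 : ℕ) : Decidable (D3 k d g m1 m2 e1 e2) := by unfold D3; infer_instance

def D4 (k d g m1 e1 : ℕ) : Prop :=
  Iv k d g m1 672 e1 → g % 9 ≠ 0 → g % 5 ≠ 0 → ∀ m2 < 3, 0 < m2 → ∀ e2 < 2 * d + 1,
    Iv k d g m2 (2 * k * e2 / m2) e2 → 2 * k * e2 / m2 % 3 = 0 → D3 k d g m1 m2 e1 e2

instance (k d g m1 e1 : ℕ) : Decidable (D4 k d g m1 e1) := by unfold D4; infer_instance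

theorem dec672 : ∀ m1 < 3, 0 < m1 → ∀ k < 673, m1 * 672 = 2 * k * (m1 * 336 / k) → ∀ d < 1008,
    D4 k d (3 * k ^ 2 * (d * (d + 1))) m1 (m1 * 336 / k) := by
  decide +kernel

theorem dec1536 : ∀ k < 769, 1536 = 2 * k * (768 / k) → ∀ d < 1152,
    Iv k d (3 * k ^ 2 * (d * (d + 1))) 1 1536 (768 / k) → 3 * k ^ 2 * (d * (d + 1)) % 9 ≠ 0 →
    3 * k ^ 2 * (d * (d + 1)) % 5 ≠ 0 → 3 * k ^ 2 * (d * (d + 1)) % 7 = 0 → ∀ e < 2 * d + 1,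
    Iv k d (3 * k ^ 2 * (d * (d + 1))) 1 (2 * k * e) e → 2 * k * e % 3 ≠ 0 →
    3 * k ^ 2 * (d * (d + 1)) % 3072 = 0 ∧ 3 * k ^ 2 * (d * (d + 1)) % (2 * (2 * k * e)) = 0 := by
  decide +kernel

end Cfsg.Agent.T3
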